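import Groth.Agent.Lib.ElemExt16.Series
import Groth.Agent.Lib.Lambda.Split
import Groth.Prelude.Def_KRR
import Mathlib.RingTheory.AdjoinRoot
import Mathlib.RingTheory.Polynomial.Vieta

/-!
# The operations on the elementary extension
-/

set_option autoImplicit false
universe u

open Polynomial LambdaRing

namespace GrothLib.ElemExt16

variable {K : Type u} [CommRing K] [LambdaOps K] (P : PosStructure K) (e : K)

/-- The degree of the defining polynomial. -/
abbrev deg : ℕ := (P.aug e).toNat

/-- The elementary extension. -/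
abbrev Ext : Type u := AdjoinRoot (KRR.extPoly P e)

/-- The generator. -/
noncomputable abbrev gen : Ext P e := AdjoinRoot.root (KRR.extPoly P e)

/-- The structure map. -/
noncomputable abbrev incl : K →+* Ext P e := AdjoinRoot.of (KRR.extPoly P e)

theorem nontrivial_of_pos (P : PosStructure K) : Nontrivial K :=
  ⟨⟨0, 1, fun h => by simpa using congrArg P.aug h⟩⟩

theorem extPoly_spec : (KRR.extPoly P e).Monic ∧ (KRR.extPoly P e).natDegree = deg P e := by
  haveI := nontrivial_of_pos P
  have h : KRR.extPoly P e = X ^ deg P e + ∑ k ∈ Finset.range (deg P e),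
      C ((-1 : K) ^ (k + 1) * LambdaOps.lam (k + 1) e) * X ^ (deg P e - (k + 1)) := by
    rw [KRR.extPoly, Finset.sum_range_succ', add_comm]
    simp [LambdaOps.lam_zero, deg]
  have hd : (∑ k ∈ Finset.range (deg P e),
      C ((-1 : K) ^ (k + 1) * LambdaOps.lam (k + 1) e) * X ^ (deg P e - (k + 1))).degree <
        ((deg P e : ℕ) : WithBot ℕ) := by
    refine (degree_sum_le _ _).trans_lt ((Finset.sup_lt_iff (WithBot.bot_lt_coe _)).2 fun k hk => ?_)
    rw [Finset.mem_range] at hk
    exact (degree_C_mul_X_pow_le _ _).trans_lt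
      (by exact_mod_cast (by omega : deg P e - (k + 1) < deg P e))
  rw [h]
  exact ⟨monic_X_pow_add hd, by rw [natDegree_add_eq_left_of_degree_lt (by rwa [degree_X_pow]), natDegree_X_pow]⟩

/-- The remainder, as a linear map. -/
noncomputable abbrev remHom : Ext P e →ₗ[K] K[X] := AdjoinRoot.modByMonicHom (extPoly_spec P e).1

/-- The series of operations. -/
noncomputable def lamS (x : Ext P e) : PowerSeries (Ext P e) :=
  ∏ j ∈ Finset.range (deg P e), PowerSeries.rescale (gen P e ^ j)
    (PowerSeries.map (incl P e) (lamSeries ((remHom P e x).coeff j)))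

theorem lamS_add (x y : Ext P e) : lamS P e (x + y) = lamS P e x * lamS P e y := by
  simp only [lamS, map_add, coeff_add, GrothLib.Lambda.lamSeries_add, map_mul, Finset.prod_mul_distrib]

theorem constantCoeff_lamS (x : Ext P e) : PowerSeries.constantCoeff (lamS P e x) = 1 := by
  rw [lamS, map_prod]
  refine Finset.prod_eq_one fun j _ => ?_
  rw [← PowerSeries.coeff_zero_eq_constantCoeff_apply, PowerSeries.coeff_rescale, pow_zero, one_mul,
    PowerSeries.coeff_map, PowerSeries.coeff_zero_eq_constantCoeff_apply,
    GrothLib.Lambda.constantCoeff_lamSeries, map_one]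

theorem isUnit_lamS (x : Ext P e) : IsUnit (lamS P e x) :=
  isUnit_of_constantCoeff (constantCoeff_lamS P e x)

theorem lamS_zero : lamS P e 0 = 1 := by
  have h := lamS_add P e 0 0
  rw [add_zero] at h
  exact ((isUnit_lamS P e 0).mul_left_cancel ((mul_one _).trans h)).symm

theorem lamS_multiset_sum {α : Type*} (t : Multiset α) (g : α → Ext P e) :
    lamS P e (t.map g).sum = (t.map fun b => lamS P e (g b)).prod := by
  induction t using Multiset.induction with
  | empty => simp [lamS_zero]
  | cons b t ih => simp [lamS_add, ih]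

theorem coeff_one_eq_of_prod {R : Type u} [CommRing R] {ι : Type*} (s : Finset ι) (F : ι → PowerSeries R)
    (h : ∀ i ∈ s, PowerSeries.constantCoeff (F i) = 1) :
    PowerSeries.coeff 1 (∏ i ∈ s, F i) = ∑ i ∈ s, PowerSeries.coeff 1 (F i) := by
  classical
  induction s using Finset.induction with
  | empty => simp [PowerSeries.coeff_one]
  | insert a s ha ih =>
    have hs := fun i hi => h i (Finset.mem_insert_of_mem hi)
    rw [Finset.prod_insert ha, Finset.sum_insert ha, PowerSeries.coeff_mul, ← ih hs]
    have h1 : PowerSeries.constantCoeff (∏ i ∈ s, F i) = 1 := by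
      rw [map_prod]; exact Finset.prod_eq_one hs
    simp [Finset.Nat.antidiagonal_succ, h a (Finset.mem_insert_self a s), h1]
    ring

theorem mk_remHom (x : Ext P e) : AdjoinRoot.mk (KRR.extPoly P e) (remHom P e x) = x := by
  obtain ⟨g, rfl⟩ := AdjoinRoot.mk_surjective x
  exact AdjoinRoot.mk_leftInverse (extPoly_spec P e).1 (AdjoinRoot.mk _ g)

theorem natDegree_remHom (hm : 0 < deg P e) (x : Ext P e) : (remHom P e x).natDegree < deg P e := by
  haveI := nontrivial_of_pos P
  obtain ⟨g, rfl⟩ := AdjoinRoot.mk_surjective x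
  rw [remHom, AdjoinRoot.modByMonicHom_mk]
  obtain ⟨hmon, hd⟩ := extPoly_spec P e
  have := natDegree_modByMonic_lt g hmon (fun h => by rw [h, natDegree_one] at hd; omega)
  omega

theorem coeff_one_lamS (hm : 0 < deg P e) (x : Ext P e) : PowerSeries.coeff 1 (lamS P e x) = x := by
  rw [lamS, coeff_one_eq_of_prod _ _ fun j _ => ?_]
  · conv_rhs => rw [← mk_remHom P e x, Polynomial.as_sum_range' _ _ (natDegree_remHom P e hm x), map_sum]
    refine Finset.sum_congr rfl fun j _ => ?_
    rw [PowerSeries.coeff_rescale, pow_one, PowerSeries.coeff_map, lamSeries, PowerSeries.coeff_mk,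
      LambdaOps.lam_one, ← C_mul_X_pow_eq_monomial, map_mul, map_pow, AdjoinRoot.mk_X, AdjoinRoot.mk_C, mul_comm]
  · rw [← PowerSeries.coeff_zero_eq_constantCoeff_apply, PowerSeries.coeff_rescale, pow_zero, one_mul,
      PowerSeries.coeff_map, PowerSeries.coeff_zero_eq_constantCoeff_apply,
      GrothLib.Lambda.constantCoeff_lamSeries, map_one]

theorem deg_pos {e : K} (he : e ∈ P.pos) : 0 < deg P e := by
  have := P.aug_pos e he
  show 0 < (P.aug e).toNat
  omega

/-- The λ-operations of the elementary extension. -/
noncomputable abbrev ops {e : K} (he : e ∈ P.pos) : LambdaOps (Ext P e) where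
  lam i x := PowerSeries.coeff i (lamS P e x)
  lam_zero x := by rw [PowerSeries.coeff_zero_eq_constantCoeff_apply, constantCoeff_lamS]
  lam_one x := coeff_one_lamS P e (deg_pos P he) x
  lam_add k x y := by
    rw [lamS_add, PowerSeries.coeff_mul, Finset.Nat.sum_antidiagonal_eq_sum_range_succ_mk]

theorem lamS_monomial (a : K) {n : ℕ} (hn : n < deg P e) :
    lamS P e (incl P e a * gen P e ^ n) =
      PowerSeries.rescale (gen P e ^ n) (PowerSeries.map (incl P e) (lamSeries a)) := by
  haveI := nontrivial_of_pos P
  have h : remHom P e (incl P e a * gen P e ^ n) = C a * X ^ n := by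
    rw [show incl P e a * gen P e ^ n = AdjoinRoot.mk _ (C a * X ^ n) by simp, remHom, AdjoinRoot.modByMonicHom_mk]
    refine (modByMonic_eq_self_iff (extPoly_spec P e).1).2 ((degree_C_mul_X_pow_le n a).trans_lt ?_)
    rw [degree_eq_natDegree (extPoly_spec P e).1.ne_zero, (extPoly_spec P e).2]
    exact_mod_cast hn
  rw [lamS, Finset.prod_eq_single n]
  · rw [h]; simp
  · intro j _ hj
    rw [h, coeff_C_mul_X_pow, if_neg hj, GrothLib.Lambda.lamSeries_zero, map_one, map_one]
  · exact fun h' => absurd (Finset.mem_range.2 hn) h'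

theorem lamSeries_line {v : K} (hv : P.IsLine v) : lamSeries v = lineS v := by
  ext n
  rw [coeff_lineS, lamSeries, PowerSeries.coeff_mk]
  rcases n with _ | _ | n
  · simp [LambdaOps.lam_zero]
  · simp [LambdaOps.lam_one]
  · simpa using GrothLib.Lambda.lam_line_eq_zero hv (by omega)

variable {P e}

/-- The defining polynomial of a split element. -/
theorem extPoly_split {t : Multiset K} (ht : ∀ u ∈ t, P.IsLine u) (hs : t.sum = e) :
    KRR.extPoly P e = (t.map fun u => X - C u).prod := by
  have hc : (P.aug e).toNat = t.card := by rw [← hs, GrothLib.Lambda.card_of_split ht]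
  have hl : ∀ i, LambdaOps.lam i e = t.esymm i := fun i => by
    rw [← hs]
    exact GrothLib.Lambda.lam_multiset_sum t (fun u hu j hj => GrothLib.Lambda.lam_line_eq_zero (ht u hu) hj) i
  rw [KRR.extPoly, hc, Multiset.prod_X_sub_X_eq_sum_esymm]
  refine Finset.sum_congr rfl fun i _ => ?_
  rw [hl, map_mul, map_pow, map_neg, map_one]
  ring

theorem lamS_line_monomial {t : Multiset K} (ht : ∀ u ∈ t, P.IsLine u) (hs : t.sum = e) :
    ∀ (n : ℕ) {a : K}, P.IsLine a → lamS P e (incl P e a * gen P e ^ n) = lineS (incl P e a * gen P e ^ n) := by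
  intro n
  induction n using Nat.strong_induction_on with
  | _ N IH =>
  intro a ha
  rcases lt_or_ge N (deg P e) with hN | hN
  · rw [lamS_monomial P e a hN, lamSeries_line P ha, map_lineS, rescale_lineS, mul_comm]
  set l := gen P e
  let us := t.toList.map (incl P e)
  have hus : ∀ w ∈ us, ∃ u, P.IsLine u ∧ incl P e u = w := fun w hw => by
    obtain ⟨u, hu, rfl⟩ := List.mem_map.1 hw
    exact ⟨u, ht u (Multiset.mem_toList.1 hu), rfl⟩
  have sub : ∀ ws : List (Ext P e), (∀ w ∈ ws, ∃ u, P.IsLine u ∧ incl P e u = w) →
      ∀ (b : K), P.IsLine b → ∀ i, i + ws.length ≤ N →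
        lamS P e (incl P e b * l ^ i * (ws.map (l - ·)).prod) *
            PowerSeries.rescale (incl P e b * l ^ i) (altPair l ws).2 * lineS (incl P e b * l ^ (i + ws.length)) =
          lamS P e (incl P e b * l ^ (i + ws.length)) * PowerSeries.rescale (incl P e b * l ^ i) (altPair l ws).1 := by
    intro ws
    induction ws with
    | nil => intro _ b _ i _; simp [altPair, rescale_lineS]
    | cons w ws ih =>
      intro hws b hb i hi
      obtain ⟨u, hu, rfl⟩ := hws w (List.mem_cons_self)
      have hws' := fun x hx => hws x (List.mem_cons_of_mem _ hx)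
      rw [List.length_cons] at hi
      have hbu : P.IsLine (b * u) := GrothLib.Lambda.IsLine.mul hb hu
      have h1 := ih hws' b hb (i + 1) (by omega)
      have h2 := ih hws' (b * u) hbu i (by omega)
      rw [IH (i + ws.length) (by omega) hbu, mul_comm (lineS _) (PowerSeries.rescale _ _)] at h2
      replace h2 := (isUnit_lineS _).mul_right_cancel h2
      rw [show i + 1 + ws.length = i + (ws.length + 1) by omega] at h1
      have hX : incl P e b * l ^ i * ((incl P e u :: ws).map (l - ·)).prod +
          incl P e (b * u) * l ^ i * (ws.map (l - ·)).prod = incl P e b * l ^ (i + 1) * (ws.map (l - ·)).prod := by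
        rw [List.map_cons, List.prod_cons, map_mul, pow_succ]
        ring
      have hadd := lamS_add P e (incl P e b * l ^ i * ((incl P e u :: ws).map (l - ·)).prod)
        (incl P e (b * u) * l ^ i * (ws.map (l - ·)).prod)
      rw [hX] at hadd
      rw [hadd] at h1
      rw [List.length_cons, altPair]
      simp only [map_mul, PowerSeries.rescale_rescale]
      have e1 : l * (incl P e b * l ^ i) = incl P e b * l ^ (i + 1) := by rw [pow_succ]; ring
      have e2 : incl P e u * (incl P e b * l ^ i) = incl P e b * incl P e u * l ^ i := by ring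
      rw [map_mul] at h1 h2
      rw [e1, e2, ← h2]
      linear_combination (PowerSeries.rescale (incl P e b * incl P e u * l ^ i) (altPair l ws).2) * h1
  have h0 : (us.map (l - ·)).prod = 0 := by
    have h := congrArg (Polynomial.eval₂RingHom (incl P e) l) (extPoly_split ht hs)
    rw [map_multiset_prod, Multiset.map_map, Polynomial.coe_eval₂RingHom, AdjoinRoot.eval₂_root] at h
    refine Eq.trans ?_ h.symm
    rw [List.map_map, ← Multiset.prod_coe, ← Multiset.map_coe, Multiset.coe_toList]
    exact congrArg Multiset.prod (Multiset.map_congr rfl fun u _ => by simp [l])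
  have hlen : us.length = deg P e := by
    rw [List.length_map, Multiset.length_toList, ← GrothLib.Lambda.card_of_split ht, hs]
  obtain ⟨i, hi⟩ : ∃ i, N = i + us.length := ⟨N - us.length, by omega⟩
  have h := sub us hus a ha i hi.ge
  rw [h0, mul_zero, lamS_zero, one_mul, altPair_eq h0, mul_comm, ← hi] at h
  exact ((isUnit_rescale (isUnit_altPair l us).2 _).mul_right_cancel h).symm

end GrothLib.ElemExt16
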