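import Groth.Agent.Lib.ElemExt16.Ops
import Mathlib.Data.Nat.Choose.Sum
import Mathlib.Algebra.Group.Subsemigroup.Basic

/-!
# The positive structure on the elementary extension
-/

set_option autoImplicit false
universe u

open Polynomial LambdaRing

namespace GrothLib.ElemExt16

theorem prod_rescale_comm {S : Type u} [CommRing S] (T M : Multiset S) :
    (T.map fun w => PowerSeries.rescale w (multS M)).prod = (M.map fun v => PowerSeries.rescale v (multS T)).prod := by
  induction T using Multiset.induction with
  | empty => simp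
  | cons w T ih =>
    rw [Multiset.map_cons, Multiset.prod_cons, ih, rescale_multS, multS, Multiset.map_map]
    rw [← Multiset.prod_map_mul]
    refine congrArg Multiset.prod (Multiset.map_congr rfl fun v _ => ?_)
    rw [Function.comp_apply, multS_cons, map_mul, rescale_lineS, mul_comm w v]

theorem prod_bind_mul {S : Type u} [CommRing S] (s M : Multiset S) :
    (s.bind fun b => M.map (b * ·)).prod = s.prod ^ M.card * M.prod ^ s.card := by
  induction s using Multiset.induction with
  | empty => simp
  | cons b s ih =>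
    rw [Multiset.cons_bind, Multiset.prod_add, ih, Multiset.prod_cons, Multiset.card_cons,
      Multiset.prod_map_mul, Multiset.map_const', Multiset.prod_replicate, Multiset.map_id']
    ring

theorem card_bind_mul {S : Type u} [CommRing S] (s M : Multiset S) :
    (s.bind fun b => M.map (b * ·)).card = s.card * M.card := by
  induction s using Multiset.induction with
  | empty => simp
  | cons b s ih => rw [Multiset.cons_bind, Multiset.card_add, ih, Multiset.card_map, Multiset.card_cons]; ring

theorem multS_bind_mul {S : Type u} [CommRing S] (s M : Multiset S) :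
    multS (s.bind fun b => M.map (b * ·)) = (s.map fun w => PowerSeries.rescale w (multS M)).prod := by
  rw [multS_bind]
  exact congrArg Multiset.prod (Multiset.map_congr rfl fun w _ => (rescale_multS w M).symm)

variable {K : Type u} [CommRing K] [LambdaOps K] {P : PosStructure K} {e : K}

theorem lamSeries_lines {s : Multiset K} (hs : ∀ b ∈ s, P.IsLine b) : lamSeries s.sum = multS s := by
  induction s using Multiset.induction with
  | empty => simp [GrothLib.Lambda.lamSeries_zero]
  | cons b s ih =>
    rw [Multiset.sum_cons, GrothLib.Lambda.lamSeries_add, multS_cons, lamSeries_line P (hs b (Multiset.mem_cons_self _ _)),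
      ih fun u hu => hs u (Multiset.mem_cons_of_mem hu)]

theorem lamS_incl (he : 0 < deg P e) (a : K) :
    lamS P e (incl P e a) = PowerSeries.map (incl P e) (lamSeries a) := by
  have h := lamS_monomial P e a he
  rw [pow_zero, mul_one] at h
  rw [h, PowerSeries.rescale_one, RingHom.id_apply]

theorem incl_injective (he : 0 < deg P e) : Function.Injective (incl P e) := by
  haveI := nontrivial_of_pos P
  refine (injective_iff_map_eq_zero _).2 fun a ha => ?_
  rw [← AdjoinRoot.mk_C, AdjoinRoot.mk_eq_zero] at ha
  by_contra hne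
  refine (extPoly_spec P e).1.not_dvd_of_natDegree_lt (C_ne_zero.2 hne) ?_ ha
  rw [natDegree_C, (extPoly_spec P e).2]
  exact he

/-- The remainder `e - ℓ`. -/
noncomputable abbrev rest (P : PosStructure K) (e : K) : Ext P e := incl P e e - gen P e

section good

variable {Ω : Type u} [CommRing Ω] (φ : Ext P e →+* Ω)

/-- `x` behaves like the sum of the members of `M`. -/
def Good (x : Ext P e) (M : Multiset Ω) : Prop :=
  ∀ a, P.IsLine a → ∀ n, PowerSeries.map φ (lamS P e (incl P e a * gen P e ^ n * x)) =
    PowerSeries.rescale (φ (incl P e a * gen P e ^ n)) (multS M)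

variable {t : Multiset K} (ht : ∀ u ∈ t, P.IsLine u) (hsum : t.sum = e)

include ht hsum in
theorem good_one : Good φ 1 {1} := fun a ha n => by
  rw [mul_one, lamS_line_monomial ht hsum n ha, map_lineS, show multS ({1} : Multiset Ω) = lineS 1 by simp [multS],
    rescale_lineS, mul_one]

theorem Good.gen_mul {x : Ext P e} {M : Multiset Ω} (h : Good φ x M) :
    Good φ (gen P e * x) (M.map (φ (gen P e) * ·)) := fun a ha n => by
  rw [← rescale_multS, PowerSeries.rescale_rescale, show incl P e a * gen P e ^ n * (gen P e * x) =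
    incl P e a * gen P e ^ (n + 1) * x by rw [pow_succ]; ring, h a ha, ← map_mul]
  exact congrArg (fun c => PowerSeries.rescale c (multS M)) (congrArg φ (by rw [pow_succ]; ring))

theorem Good.incl_mul {x : Ext P e} {M : Multiset Ω} (h : Good φ x M) {s : Multiset K}
    (hs : ∀ b ∈ s, P.IsLine b) :
    Good φ (incl P e s.sum * x) ((s.map fun b => φ (incl P e b)).bind fun w => M.map (w * ·)) := fun a ha n => by
  rw [multS_bind_mul, map_multiset_prod, map_multiset_sum, Multiset.map_map, Multiset.map_map,
    ← Multiset.sum_map_mul_right, ← Multiset.sum_map_mul_left, lamS_multiset_sum, map_multiset_prod, Multiset.map_map]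
  refine congrArg Multiset.prod (Multiset.map_congr rfl fun b hb => ?_)
  simp only [Function.comp_apply]
  rw [show incl P e a * gen P e ^ n * (incl P e b * x) = incl P e (a * b) * gen P e ^ n * x by rw [map_mul]; ring,
    h _ (GrothLib.Lambda.IsLine.mul ha (hs b hb)), PowerSeries.rescale_rescale, ← map_mul]
  exact congrArg (fun c => PowerSeries.rescale c (multS M)) (congrArg φ (by rw [map_mul]; ring))

variable {z : Multiset Ω} (hz : multS (t.map fun b => φ (incl P e b)) = lineS (φ (gen P e)) * multS z)

include ht hsum hz in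
theorem Good.rest_mul {x : Ext P e} {M : Multiset Ω} (h : Good φ x M) :
    Good φ (rest P e * x) (z.bind fun w => M.map (w * ·)) := fun a ha n => by
  have h1 := Good.incl_mul φ h ht a ha n
  have h2 := Good.gen_mul φ h a ha n
  rw [hsum, show incl P e a * gen P e ^ n * (incl P e e * x) =
    incl P e a * gen P e ^ n * (rest P e * x) + incl P e a * gen P e ^ n * (gen P e * x) by
      simp only [rest]; ring, lamS_add, map_mul, h2] at h1
  have key : multS ((t.map fun b => φ (incl P e b)).bind fun w => M.map (w * ·)) =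
      multS (M.map (φ (gen P e) * ·)) * multS (z.bind fun w => M.map (w * ·)) := by
    rw [multS_bind_mul, multS_bind_mul, prod_rescale_comm, prod_rescale_comm (T := z), hz]
    simp only [map_mul, Multiset.prod_map_mul]
    congr 1
    simp only [rescale_lineS]
    rw [multS, Multiset.map_map]
    exact congrArg Multiset.prod (Multiset.map_congr rfl fun v _ => by rw [Function.comp_apply, mul_comm])
  rw [key, map_mul (PowerSeries.rescale _)] at h1
  exact (isUnit_rescale (by
    rw [multS]
    exact isUnit_of_constantCoeff (by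
      rw [map_multiset_prod, Multiset.map_map, Multiset.map_map]
      refine Multiset.prod_eq_one fun c hc => ?_
      obtain ⟨v, _, rfl⟩ := Multiset.mem_map.1 hc
      simp [lineS])) _).mul_right_cancel (h1.trans (mul_comm _ _))

end good

/-- The operations vanish above `N` and the `N`-th is a unit. -/
def Bnd (P : PosStructure K) (e : K) (x : Ext P e) (N : ℕ) : Prop :=
  (∀ i, N < i → PowerSeries.coeff i (lamS P e x) = 0) ∧ IsUnit (PowerSeries.coeff N (lamS P e x))

theorem Bnd.add {x y : Ext P e} {M N : ℕ} (hx : Bnd P e x M) (hy : Bnd P e y N) : Bnd P e (x + y) (M + N) := by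
  refine ⟨fun i hi => ?_, ?_⟩
  · rw [lamS_add, PowerSeries.coeff_mul]
    refine Finset.sum_eq_zero fun p hp => ?_
    rw [Finset.mem_antidiagonal] at hp
    rcases lt_or_ge M p.1 with h | h
    · rw [hx.1 _ h, zero_mul]
    · rw [hy.1 _ (by omega), mul_zero]
  · rw [lamS_add, PowerSeries.coeff_mul, Finset.sum_eq_single (M, N)]
    · exact hx.2.mul hy.2
    · intro p hp hne
      rw [Finset.mem_antidiagonal] at hp
      rcases lt_trichotomy p.1 M with h | h | h
      · rw [hy.1 _ (by omega), mul_zero]
      · exact absurd (Prod.ext h (by omega)) hne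
      · rw [hx.1 _ h, zero_mul]
    · intro h; exact absurd (by simp) h

section functorial

variable {L : Type u} [CommRing L] [LambdaOps L] {PL : PosStructure L} {f : K →+* L}
  (hf : IsExtension P PL f)

include hf in
theorem map_extPoly (e : K) : (KRR.extPoly P e).map f = KRR.extPoly PL (f e) := by
  simp [KRR.extPoly, Polynomial.map_sum, hf.aug_comp, hf.isLambdaHom _ e]

/-- The map of elementary extensions. -/
noncomputable def extMap (e : K) : Ext P e →+* Ext PL (f e) :=
  AdjoinRoot.lift ((incl PL (f e)).comp f) (gen PL (f e))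
    (by rw [← eval₂_map, map_extPoly hf, AdjoinRoot.eval₂_root])

theorem extMap_mk (G : K[X]) : extMap hf e (AdjoinRoot.mk _ G) = AdjoinRoot.mk _ (G.map f) := by
  rw [extMap, AdjoinRoot.lift_mk, ← eval₂_map, ← AdjoinRoot.aeval_eq, aeval_def, AdjoinRoot.algebraMap_eq]

theorem remHom_extMap (x : Ext P e) : remHom PL (f e) (extMap hf e x) = (remHom P e x).map f := by
  obtain ⟨G, rfl⟩ := AdjoinRoot.mk_surjective x
  rw [extMap_mk, remHom, AdjoinRoot.modByMonicHom_mk, remHom, AdjoinRoot.modByMonicHom_mk,
    map_modByMonic f (extPoly_spec P e).1, map_extPoly hf]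

theorem extMap_injective : Function.Injective (extMap hf e) := fun x y h => by
  have h1 := congrArg (remHom PL (f e)) h
  rw [remHom_extMap, remHom_extMap] at h1
  rw [← mk_remHom P e x, Polynomial.map_injective f hf.injective h1, mk_remHom]

theorem extMap_lamS (x : Ext P e) :
    PowerSeries.map (extMap hf e) (lamS P e x) = lamS PL (f e) (extMap hf e x) := by
  rw [lamS, lamS, map_prod, show deg PL (f e) = deg P e by rw [deg, deg, hf.aug_comp]]
  refine Finset.prod_congr rfl fun j _ => ?_
  rw [map_rescale, map_pow, remHom_extMap, Polynomial.coeff_map,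
    show extMap hf e (gen P e) = gen PL (f e) from AdjoinRoot.lift_root _]
  congr 1
  ext n
  simp only [PowerSeries.coeff_map, lamSeries, PowerSeries.coeff_mk, ← hf.isLambdaHom n]
  exact AdjoinRoot.lift_of _

theorem extMap_incl (a : K) : extMap hf e (incl P e a) = incl PL (f e) (f a) := AdjoinRoot.lift_of _

theorem extMap_gen : extMap hf e (gen P e) = gen PL (f e) := AdjoinRoot.lift_root _

theorem extMap_rest : extMap hf e (rest P e) = rest PL (f e) := by
  rw [rest, map_sub, extMap_incl, extMap_gen]

end functorial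

theorem exists_split_two (hK : HasSplitting K P) {a b : K} (ha : a ∈ P.pos) (hb : b ∈ P.pos) :
    ∃ (L : PosLambdaRing.{u}) (f : K →+* L.carrier), IsExtension P L.posStr f ∧
      (∃ s : Multiset L.carrier, (∀ u ∈ s, L.posStr.IsLine u) ∧ s.sum = f a) ∧
      ∃ t : Multiset L.carrier, (∀ u ∈ t, L.posStr.IsLine u) ∧ t.sum = f b := by
  obtain ⟨C, hC, hsplit⟩ := hK
  obtain ⟨L, hL, f, hf, s, hs, hsum⟩ := hsplit _ hC a ha
  obtain ⟨L', _, g, hg, t, ht, htsum⟩ := hsplit L hL (f b) (hf.pos_subset b hb)
  refine ⟨L', g.comp f, GrothLib.Lambda.isExtension_comp hg hf, ⟨s.map g, fun u hu => ?_, ?_⟩, t, ht, htsum⟩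
  · obtain ⟨v, hv, rfl⟩ := Multiset.mem_map.1 hu
    exact GrothLib.Lambda.IsExtension.map_line hg (hs v hv)
  · rw [← map_multiset_sum, hsum]; rfl

theorem deg_one_rest (hK : HasSplitting K P) (he : e ∈ P.pos) (h : deg P e = 1) : rest P e = 0 := by
  obtain ⟨hmon, hd⟩ := extPoly_spec P e
  have hp : KRR.extPoly P e = X - C e := by
    rw [KRR.extPoly, show (P.aug e).toNat = 1 from h]
    simp [Finset.sum_range_succ, LambdaOps.lam_zero, LambdaOps.lam_one, sub_eq_add_neg]
  have h2 := AdjoinRoot.eval₂_root (KRR.extPoly P e)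
  conv at h2 => lhs; arg 3; rw [hp]
  rw [eval₂_sub, eval₂_X, eval₂_C, sub_eq_zero] at h2
  rw [rest, sub_eq_zero]
  exact h2.symm

theorem bnd_generator (hK : HasSplitting K P) (he : e ∈ P.pos) {a : K} (ha : a ∈ P.pos) (i j : ℕ)
    (hj : 2 ≤ deg P e ∨ j = 0) :
    Bnd P e (incl P e a * gen P e ^ i * rest P e ^ j) ((P.aug a).toNat * (deg P e - 1) ^ j) := by
  classical
  obtain ⟨L, f, hf, ⟨s, hs, hssum⟩, t, ht, htsum⟩ := exists_split_two hK ha he
  let PL := L.posStr
  have hm : 0 < deg P e := deg_pos P he
  have hdegL : deg PL (f e) = deg P e := by rw [deg, deg, hf.aug_comp]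
  have hcard : t.card = deg P e := by
    rw [← GrothLib.Lambda.card_of_split ht, htsum, hf.aug_comp]
  have hscard : s.card = (P.aug a).toNat := by
    rw [← GrothLib.Lambda.card_of_split hs, hssum, hf.aug_comp]
  -- the splitting of the remaining factor
  obtain ⟨hmon, hd⟩ := extPoly_spec PL (f e)
  let pL := (KRR.extPoly PL (f e)).map (incl PL (f e))
  obtain ⟨q, hq⟩ := dvd_iff_isRoot.2
    (show pL.IsRoot (gen PL (f e)) by rw [IsRoot, eval_map, AdjoinRoot.eval₂_root])
  haveI : Nontrivial L.carrier := nontrivial_of_pos PL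
  haveI : Nontrivial (Ext PL (f e)) := (incl_injective (P := PL) (e := f e) (hdegL ▸ hm)).nontrivial
  have hqmon : q.Monic := (monic_X_sub_C _).of_mul_monic_left (by rw [← hq]; exact hmon.map _)
  have hqd : q.natDegree = deg P e - 1 := by
    have := congrArg natDegree hq
    rw [hmon.natDegree_map, hd, (monic_X_sub_C _).natDegree_mul hqmon, natDegree_X_sub_C, hdegL] at this
    omega
  obtain ⟨Ω, _, φ, z, hφ, hzc, hzq⟩ := exists_splitting _ q hqmon hqd
  let χ : Ext P e →+* Ω := φ.comp (extMap hf e)
  have hχ : Function.Injective χ := hφ.comp (extMap_injective hf)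
  let T := t.map fun b => φ (incl PL (f e) b)
  have hpoly : (T.map fun v => X - C v).prod = ((φ (gen PL (f e)) ::ₘ z).map fun v => X - C v).prod := by
    have h := congrArg (Polynomial.map φ) hq
    rw [show pL = (t.map fun b => X - C (incl PL (f e) b)).prod by
      show Polynomial.map (incl PL (f e)) (KRR.extPoly PL (f e)) = _
      rw [congrArg (Polynomial.map (incl PL (f e))) (extPoly_split ht htsum), Polynomial.map_multiset_prod,
        Multiset.map_map]
      exact congrArg Multiset.prod (Multiset.map_congr rfl fun b _ => by simp),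
      Polynomial.map_multiset_prod, Polynomial.map_mul, hzq, Multiset.map_map] at h
    rw [Multiset.map_map, Multiset.map_cons, Multiset.prod_cons]
    rw [Polynomial.map_sub, map_X, map_C] at h
    rw [← h]
    exact congrArg Multiset.prod (Multiset.map_congr rfl fun b _ => by simp)
  have hcards : T.card = (φ (gen PL (f e)) ::ₘ z).card := by
    rw [Multiset.card_map, Multiset.card_cons, hzc, hcard]; omega
  have hT : multS T = multS (φ (gen PL (f e)) ::ₘ z) := multS_congr hcards hpoly
  have hz' : multS (t.map fun b => φ (incl PL (f e) b)) = lineS (φ (gen PL (f e))) * multS z := by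
    rw [← multS_cons]; exact hT
  have hprodT : T.prod = φ (gen PL (f e)) * z.prod := by
    have h := congrArg (PowerSeries.coeff T.card) hT
    rw [(coeff_multS T).2, hcards, (coeff_multS (φ (gen PL (f e)) ::ₘ z)).2, Multiset.prod_cons] at h
    exact h
  have transfer : ∀ (x : Ext P e) (M : Multiset Ω), Good φ (extMap hf e x) M →
      PowerSeries.map χ (lamS P e x) = multS M := fun x M h => by
    have := h 1 (GrothLib.Lambda.isLine_one PL) 0
    rw [map_one, pow_zero, one_mul, one_mul, map_one, PowerSeries.rescale_one, RingHom.id_apply] at this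
    rw [← this, ← extMap_lamS, PowerSeries.map_comp, RingHom.comp_apply]
  have h1 : Good φ (1 : Ext PL (f e)) {1} := good_one φ ht htsum
  -- units
  have hzu : ∃ w : Ext P e, IsUnit w ∧ χ w = z.prod ∧ IsUnit (gen P e) := by
    let w := PowerSeries.coeff (deg P e - 1) (lamS P e (rest P e))
    have hw : χ w = z.prod := by
      have h := transfer (rest P e) (z.bind fun v => ({1} : Multiset Ω).map (v * ·)) (by
        rw [extMap_rest, ← mul_one (rest PL (f e))]
        exact Good.rest_mul φ ht htsum hz' h1)
      have hz1 : (z.bind fun v => ({1} : Multiset Ω).map (v * ·)) = z := by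
        simp only [Multiset.map_singleton, mul_one]
        rw [Multiset.bind_singleton, Multiset.map_id']
      rw [hz1] at h
      rw [← PowerSeries.coeff_map, h, ← hzc, (coeff_multS z).2]
    have hmul : χ (gen P e * w) = χ (incl P e (LambdaOps.lam (deg P e) e)) := by
      rw [map_mul, hw]
      show φ (extMap hf e (gen P e)) * _ = φ (extMap hf e (incl P e _))
      have lamL : LambdaOps.lam (deg P e) (f e) = t.prod := by
        rw [← hcard, ← htsum]
        have := congrArg (PowerSeries.coeff t.card) (lamSeries_lines ht)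
        rwa [(coeff_multS t).2, lamSeries, PowerSeries.coeff_mk] at this
      rw [extMap_gen, extMap_incl, ← hprodT, hf.isLambdaHom, lamL, map_multiset_prod, map_multiset_prod,
        Multiset.map_map]
      rfl
    have hu : IsUnit (gen P e * w) := (hχ hmul) ▸ (P.isUnit_lam e he).map (incl P e)
    exact ⟨w, (IsUnit.mul_iff.1 hu).2, hw, (IsUnit.mul_iff.1 hu).1⟩
  obtain ⟨wz, hwz, hwz', hgen⟩ := hzu
  -- the multiset of the generator
  have main : ∃ M : Multiset Ω, Good φ (extMap hf e (incl P e a * gen P e ^ i * rest P e ^ j)) M ∧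
      M.card = (P.aug a).toNat * (deg P e - 1) ^ j ∧ ∃ w, IsUnit w ∧ χ w = M.prod := by
    have hd : ∀ j, ∃ M : Multiset Ω, Good φ (rest PL (f e) ^ j) M ∧ M.card = (deg P e - 1) ^ j ∧
        ∃ w, IsUnit w ∧ χ w = M.prod := fun j => by
      induction j with
      | zero => exact ⟨{1}, by rw [pow_zero]; exact h1, by simp, 1, isUnit_one, by simp⟩
      | succ j ih =>
        obtain ⟨M, hM, hc, w, hw, hw'⟩ := ih
        refine ⟨z.bind fun v => M.map (v * ·), by rw [pow_succ']; exact Good.rest_mul φ ht htsum hz' hM, ?_,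
          wz ^ M.card * w ^ z.card, (hwz.pow _).mul (hw.pow _), ?_⟩
        · rw [card_bind_mul, hzc, hc, pow_succ']
        · rw [prod_bind_mul, map_mul, map_pow, map_pow, hwz', hw']
    have hg : ∀ i, ∃ M : Multiset Ω, Good φ (gen PL (f e) ^ i * rest PL (f e) ^ j) M ∧
        M.card = (deg P e - 1) ^ j ∧ ∃ w, IsUnit w ∧ χ w = M.prod := fun i => by
      induction i with
      | zero => rw [pow_zero, one_mul]; exact hd j
      | succ i ih =>
        obtain ⟨M, hM, hc, w, hw, hw'⟩ := ih
        refine ⟨M.map (φ (gen PL (f e)) * ·), ?_, by rw [Multiset.card_map, hc],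
          gen P e ^ M.card * w, (hgen.pow _).mul hw, ?_⟩
        · rw [pow_succ', mul_assoc]; exact Good.gen_mul φ hM
        · rw [Multiset.prod_map_mul, Multiset.map_const', Multiset.prod_replicate, Multiset.map_id', map_mul,
            map_pow, hw', show χ (gen P e) = φ (gen PL (f e)) from congrArg φ (extMap_gen hf)]
    obtain ⟨M, hM, hc, w, hw, hw'⟩ := hg i
    refine ⟨(s.map fun b => φ (incl PL (f e) b)).bind fun v => M.map (v * ·), ?_, ?_,
      incl P e (LambdaOps.lam (P.aug a).toNat a) ^ M.card * w ^ s.card,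
      (((P.isUnit_lam a ha).map (incl P e)).pow _).mul (hw.pow _), ?_⟩
    · rw [map_mul, map_mul, map_pow, map_pow, extMap_incl, extMap_gen, extMap_rest, ← hssum, mul_assoc]
      exact Good.incl_mul φ hM hs
    · rw [card_bind_mul, Multiset.card_map, hscard, hc]
    · rw [prod_bind_mul, map_mul, map_pow, map_pow, hw', Multiset.card_map]
      congr 2
      show φ (extMap hf e (incl P e _)) = _
      rw [extMap_incl, hf.isLambdaHom, ← hssum, ← hscard,
        show LambdaOps.lam s.card s.sum = s.prod by
          have := congrArg (PowerSeries.coeff s.card) (lamSeries_lines hs)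
          rwa [(coeff_multS s).2, lamSeries, PowerSeries.coeff_mk] at this, map_multiset_prod, map_multiset_prod,
        Multiset.map_map]
      rfl
  obtain ⟨M, hM, hc, w, hw, hw'⟩ := main
  have h := transfer _ M hM
  refine ⟨fun k hk => hχ ?_, ?_⟩
  · rw [← PowerSeries.coeff_map, h, (coeff_multS M).1 k (hc ▸ hk), map_zero]
  · rw [show PowerSeries.coeff _ (lamS P e _) = w from hχ (by
      rw [← PowerSeries.coeff_map, h, ← hc, (coeff_multS M).2, hw'])]
    exact hw

theorem aug_root (hK : HasSplitting K P) (he : e ∈ P.pos) : (KRR.extPoly P e).eval₂ P.aug 1 = 0 := by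
  rw [KRR.extPoly, eval₂_finsetSum]
  simp only [eval₂_mul, eval₂_C, eval₂_X_pow, eval₂_X, eval₂_pow, eval₂_neg, eval₂_one, one_pow, mul_one, map_mul, map_pow, map_neg, map_one,
    GrothLib.Lambda.aug_lam hK he]
  exact Int.alternating_sum_range_choose_of_ne (deg_pos P he).ne'

/-- The augmentation of the elementary extension. -/
noncomputable def augE (hK : HasSplitting K P) (he : e ∈ P.pos) : Ext P e →+* ℤ :=
  AdjoinRoot.lift P.aug 1 (aug_root hK he)

theorem augE_incl (hK : HasSplitting K P) (he : e ∈ P.pos) (a : K) : augE hK he (incl P e a) = P.aug a :=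
  AdjoinRoot.lift_of _

theorem augE_gen (hK : HasSplitting K P) (he : e ∈ P.pos) : augE hK he (gen P e) = 1 :=
  AdjoinRoot.lift_root _

/-- The generators of the positive elements. -/
noncomputable def posGen (P : PosStructure K) (e : K) : Set (Ext P e) :=
  {x | ∃ a ∈ P.pos, ∃ i j : ℕ, (2 ≤ deg P e ∨ j = 0) ∧ x = incl P e a * gen P e ^ i * rest P e ^ j}

/-- The positive elements. -/
noncomputable def posSet (P : PosStructure K) (e : K) : AddSubsemigroup (Ext P e) := AddSubsemigroup.closure (posGen P e)

theorem incl_mem_posSet {a : K} (ha : a ∈ P.pos) : incl P e a ∈ posSet P e :=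
  AddSubsemigroup.subset_closure ⟨a, ha, 0, 0, Or.inr rfl, by simp⟩

theorem mul_mem_posSet {x y : Ext P e} (hx : x ∈ posSet P e) (hy : y ∈ posSet P e) : x * y ∈ posSet P e := by
  induction hx using AddSubsemigroup.closure_induction with
  | mem x hx =>
    induction hy using AddSubsemigroup.closure_induction with
    | mem y hy =>
      obtain ⟨a, ha, i, j, hj, rfl⟩ := hx
      obtain ⟨b, hb, i', j', hj', rfl⟩ := hy
      refine AddSubsemigroup.subset_closure ⟨a * b, P.mul_mem a b ha hb, i + i', j + j', ?_, ?_⟩
      · omega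
      · rw [map_mul, pow_add, pow_add]; ring
    | add _ _ _ _ h1 h2 => rw [mul_add]; exact AddSubsemigroup.add_mem _ h1 h2
  | add _ _ _ _ h1 h2 => rw [add_mul]; exact AddSubsemigroup.add_mem _ h1 h2

theorem bnd_posSet (hK : HasSplitting K P) (he : e ∈ P.pos) {x : Ext P e} (hx : x ∈ posSet P e) :
    ∃ N : ℕ, 0 < N ∧ augE hK he x = N ∧ Bnd P e x N := by
  induction hx using AddSubsemigroup.closure_induction with
  | mem x hx =>
    obtain ⟨a, ha, i, j, hj, rfl⟩ := hx
    refine ⟨_, ?_, ?_, bnd_generator hK he ha i j hj⟩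
    · have h1 := P.aug_pos a ha
      refine Nat.mul_pos (by omega) ?_
      rcases hj with hj | rfl
      · exact pow_pos (by omega) _
      · simp
    · have h1 := P.aug_pos a ha
      have h2 := P.aug_pos e he
      rw [map_mul, map_mul, map_pow, map_pow, map_sub, augE_incl, augE_incl, augE_gen, one_pow, mul_one,
        Nat.cast_mul, Nat.cast_pow, Int.toNat_of_nonneg h1.le]
      congr 2
      show P.aug e - 1 = (((P.aug e).toNat - 1 : ℕ) : ℤ)
      omega
  | add x y _ _ h1 h2 =>
    obtain ⟨M, hM, hM', hBM⟩ := h1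
    obtain ⟨N, hN, hN', hBN⟩ := h2
    exact ⟨M + N, by omega, by rw [map_add, hM', hN']; simp, hBM.add hBN⟩

theorem exists_sub_posSet (x : Ext P e) : ∃ p q, p ∈ posSet P e ∧ q ∈ posSet P e ∧ x = p - q := by
  obtain ⟨G, rfl⟩ := AdjoinRoot.mk_surjective x
  induction G using Polynomial.induction_on' with
  | add G H hG hH =>
    obtain ⟨p, q, hp, hq, h⟩ := hG
    obtain ⟨p', q', hp', hq', h'⟩ := hH
    exact ⟨p + p', q + q', AddSubsemigroup.add_mem _ hp hp', AddSubsemigroup.add_mem _ hq hq',
      by rw [map_add, h, h']; ring⟩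
  | monomial n c =>
    obtain ⟨a, b, ha, hb, rfl⟩ := P.exists_sub c
    refine ⟨incl P e a * gen P e ^ n, incl P e b * gen P e ^ n,
      AddSubsemigroup.subset_closure ⟨a, ha, n, 0, Or.inr rfl, by simp⟩,
      AddSubsemigroup.subset_closure ⟨b, hb, n, 0, Or.inr rfl, by simp⟩, ?_⟩
    rw [← C_mul_X_pow_eq_monomial, map_mul, map_pow, AdjoinRoot.mk_C, AdjoinRoot.mk_X, ← sub_mul, ← map_sub]

/-- The positive structure of the elementary extension. -/
noncomputable abbrev posStr (hK : HasSplitting K P) (he : e ∈ P.pos) :
    @PosStructure (Ext P e) _ (ops P he) :=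
  @PosStructure.mk (Ext P e) _ (ops P he) (augE hK he)
    (fun n => ⟨(n : Ext P e), by rw [map_intCast]; rfl⟩)
    (posSet P e) (fun _ _ h1 h2 => AddSubsemigroup.add_mem _ h1 h2) (fun _ _ h1 h2 => mul_mem_posSet h1 h2)
    (fun n hn => by simpa using incl_mem_posSet (e := e) (P.natCast_mem n hn))
    exists_sub_posSet
    (fun x hx => by
      obtain ⟨N, hN, hN', -⟩ := bnd_posSet hK he hx
      rw [hN']; exact_mod_cast hN)
    (fun x hx i hi => by
      obtain ⟨N, hN, hN', hB⟩ := bnd_posSet hK he hx
      exact hB.1 i (by rw [hN'] at hi; exact_mod_cast hi))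
    (fun x hx => by
      obtain ⟨N, hN, hN', hB⟩ := bnd_posSet hK he hx
      show IsUnit (PowerSeries.coeff (augE hK he x).toNat (lamS P e x))
      rw [hN', Int.toNat_natCast]
      exact hB.2)

theorem isExtension (hK : HasSplitting K P) (he : e ∈ P.pos) :
    @IsExtension K _ _ _ _ (ops P he) P (posStr hK he) (incl P e) :=
  @IsExtension.mk K _ _ _ _ (ops P he) P (posStr hK he) (incl P e)
    (fun i x => by
      show _ = PowerSeries.coeff i (lamS P e (incl P e x))
      rw [lamS_incl (deg_pos P he), PowerSeries.coeff_map]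
      simp [lamSeries])
    (incl_injective (deg_pos P he)) (augE_incl hK he) (fun _ h => incl_mem_posSet h)

theorem isLine_gen (hK : HasSplitting K P) (he : e ∈ P.pos) :
    @PosStructure.IsLine _ _ (ops P he) (posStr hK he) (gen P e) :=
  ⟨AddSubsemigroup.subset_closure
    ⟨1, by simpa using P.natCast_mem 1 Nat.one_pos, 1, 0, Or.inr rfl, by simp⟩, augE_gen hK he⟩

theorem lam_gen (hK : HasSplitting K P) (he : e ∈ P.pos) (i : ℕ) (hi : 2 ≤ i) :
    PowerSeries.coeff i (lamS P e (gen P e)) = 0 := by
  obtain ⟨N, _, hN', hB⟩ := bnd_posSet hK he (isLine_gen hK he).1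
  rw [augE_gen] at hN'
  exact hB.1 i (by omega)

theorem rest_mem (he2 : 2 ≤ deg P e) : rest P e ∈ posSet P e :=
  AddSubsemigroup.subset_closure ⟨1, by simpa using P.natCast_mem 1 Nat.one_pos, 0, 1, Or.inl he2, by simp⟩

end GrothLib.ElemExt16
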