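import Mathlib.RingTheory.PowerSeries.Basic
import Mathlib.RingTheory.PowerSeries.Inverse
import Mathlib.RingTheory.AdjoinRoot
import Mathlib.Algebra.Polynomial.Reverse
import Mathlib.Data.Multiset.Bind
import Mathlib.RingTheory.Ideal.Quotient.Basic

/-!
# Series attached to lists of roots
-/

set_option autoImplicit false
universe u

open Polynomial

namespace GrothLib.ElemExt16

variable {S : Type u} [CommRing S]

/-- The series `1 + v t`. -/
noncomputable def lineS (v : S) : PowerSeries S := 1 + PowerSeries.C v * PowerSeries.X

theorem coeff_lineS (v : S) (n : ℕ) :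
    PowerSeries.coeff n (lineS v) = if n = 0 then 1 else if n = 1 then v else 0 := by
  rcases n with _ | _ | n <;> simp [lineS, PowerSeries.coeff_X]

theorem map_lineS {T : Type u} [CommRing T] (g : S →+* T) (v : S) :
    PowerSeries.map g (lineS v) = lineS (g v) := by
  ext n; rw [PowerSeries.coeff_map, coeff_lineS, coeff_lineS]; split_ifs <;> simp

theorem rescale_lineS (a v : S) : PowerSeries.rescale a (lineS v) = lineS (a * v) := by
  ext n
  rw [PowerSeries.coeff_rescale, coeff_lineS, coeff_lineS]
  rcases n with _ | _ | n <;> simp

theorem isUnit_of_constantCoeff {F : PowerSeries S} (h : PowerSeries.constantCoeff F = 1) : IsUnit F :=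
  PowerSeries.isUnit_iff_constantCoeff.2 (by simp [h])

theorem isUnit_lineS (v : S) : IsUnit (lineS v) := isUnit_of_constantCoeff (by simp [lineS])

theorem isUnit_rescale {F : PowerSeries S} (h : IsUnit F) (a : S) : IsUnit (PowerSeries.rescale a F) :=
  h.map (PowerSeries.rescale a)

theorem map_rescale {T : Type u} [CommRing T] (g : S →+* T) (a : S) (F : PowerSeries S) :
    PowerSeries.map g (PowerSeries.rescale a F) = PowerSeries.rescale (g a) (PowerSeries.map g F) := by
  ext n; simp [PowerSeries.coeff_rescale, PowerSeries.coeff_map]

theorem rescale_C' (a c : S) : PowerSeries.rescale a (PowerSeries.C c) = PowerSeries.C c := by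
  ext n
  rw [PowerSeries.coeff_rescale, PowerSeries.coeff_C]
  split_ifs with h <;> simp [h]

/-- The products over the subsets of even and of odd size. -/
noncomputable def altPair (l : S) : List S → PowerSeries S × PowerSeries S
  | [] => (lineS 1, 1)
  | u :: us => (PowerSeries.rescale l (altPair l us).1 * PowerSeries.rescale u (altPair l us).2,
      PowerSeries.rescale l (altPair l us).2 * PowerSeries.rescale u (altPair l us).1)

theorem isUnit_altPair (l : S) : ∀ us, IsUnit (altPair l us).1 ∧ IsUnit (altPair l us).2
  | [] => ⟨isUnit_lineS _, isUnit_one⟩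
  | _ :: us => ⟨(isUnit_rescale (isUnit_altPair l us).1 _).mul (isUnit_rescale (isUnit_altPair l us).2 _),
      (isUnit_rescale (isUnit_altPair l us).2 _).mul (isUnit_rescale (isUnit_altPair l us).1 _)⟩

theorem altPair_sub (l : S) : ∀ us : List S,
    ∃ Q, (altPair l us).1 - (altPair l us).2 = PowerSeries.C (us.map (l - ·)).prod * Q
  | [] => ⟨lineS 1 - 1, by simp [altPair]⟩
  | u :: us => by
    obtain ⟨Q, hQ⟩ := altPair_sub l us
    set A := (altPair l us).1
    set B := (altPair l us).2
    set R := PowerSeries.rescale l Q * PowerSeries.rescale u B - PowerSeries.rescale l B * PowerSeries.rescale u Q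
    have hR : ∀ n, ∃ q, PowerSeries.coeff n R = (l - u) * q := fun n => by
      let π := Ideal.Quotient.mk (Ideal.span {l - u})
      have hlu : π l = π u := Ideal.Quotient.eq.2 (Ideal.mem_span_singleton_self _)
      have h0 : PowerSeries.map π R = 0 := by
        simp only [R, map_sub, map_mul, map_rescale, hlu]
        ring
      have := congrArg (PowerSeries.coeff n) h0
      rw [PowerSeries.coeff_map, map_zero, Ideal.Quotient.eq_zero_iff_mem, Ideal.mem_span_singleton] at this
      exact this
    choose q hq using hR
    refine ⟨PowerSeries.mk q, ?_⟩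
    have hR' : R = PowerSeries.C (l - u) * PowerSeries.mk q := by
      ext n; rw [hq, PowerSeries.coeff_C_mul, PowerSeries.coeff_mk]
    have hA : A = B + PowerSeries.C (us.map (l - ·)).prod * Q := by rw [← hQ]; ring
    simp only [List.map_cons, List.prod_cons, map_mul, altPair]
    show PowerSeries.rescale l A * PowerSeries.rescale u B - PowerSeries.rescale l B * PowerSeries.rescale u A = _
    rw [hA, map_add, map_add, map_mul, map_mul, rescale_C', rescale_C', mul_assoc, mul_comm (PowerSeries.C (l - u)),
      mul_assoc, mul_comm (PowerSeries.mk q), ← hR']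
    ring

theorem altPair_eq {l : S} {us : List S} (h : (us.map (l - ·)).prod = 0) :
    (altPair l us).1 = (altPair l us).2 := by
  obtain ⟨Q, hQ⟩ := altPair_sub l us
  rw [h, map_zero, zero_mul] at hQ
  exact sub_eq_zero.1 hQ

/-- The product of the `1 + v t`. -/
noncomputable def multS (M : Multiset S) : PowerSeries S := (M.map lineS).prod

@[simp] theorem multS_zero : multS (0 : Multiset S) = 1 := by simp [multS]

theorem multS_cons (v : S) (M : Multiset S) : multS (v ::ₘ M) = lineS v * multS M := by simp [multS]

theorem multS_add (M N : Multiset S) : multS (M + N) = multS M * multS N := by simp [multS]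

theorem multS_bind {T : Type u} (t : Multiset T) (F : T → Multiset S) :
    multS (t.bind F) = (t.map fun b => multS (F b)).prod := by
  induction t using Multiset.induction with
  | empty => simp
  | cons b t ih => simp [multS_add, ih]

theorem rescale_multS (a : S) (M : Multiset S) :
    PowerSeries.rescale a (multS M) = multS (M.map (a * ·)) := by
  induction M using Multiset.induction with
  | empty => simp
  | cons v M ih => simp [multS_cons, rescale_lineS, ih]

theorem map_multS {T : Type u} [CommRing T] (g : S →+* T) (M : Multiset S) :
    PowerSeries.map g (multS M) = multS (M.map g) := by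
  induction M using Multiset.induction with
  | empty => simp
  | cons v M ih => simp [multS_cons, map_lineS, ih]

theorem coeff_lineS_mul (v : S) (F : PowerSeries S) (n : ℕ) :
    PowerSeries.coeff (n + 1) (lineS v * F) = PowerSeries.coeff (n + 1) F + v * PowerSeries.coeff n F := by
  rw [lineS, add_mul, one_mul, map_add, mul_assoc, PowerSeries.coeff_C_mul, PowerSeries.coeff_succ_X_mul]

theorem coeff_multS (M : Multiset S) :
    (∀ i, M.card < i → PowerSeries.coeff i (multS M) = 0) ∧ PowerSeries.coeff M.card (multS M) = M.prod := by
  induction M using Multiset.induction with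
  | empty =>
    refine ⟨fun i hi => ?_, by simp⟩
    rw [multS_zero, PowerSeries.coeff_one, if_neg (by simp at hi; omega)]
  | cons v M ih =>
    rw [multS_cons, Multiset.card_cons]
    refine ⟨fun i hi => ?_, ?_⟩
    · obtain ⟨i, rfl⟩ : ∃ j, i = j + 1 := ⟨i - 1, by omega⟩
      rw [coeff_lineS_mul, ih.1 _ (by omega), ih.1 _ (by omega), mul_zero, add_zero]
    · rw [coeff_lineS_mul, ih.1 _ (Nat.lt_succ_self _), ih.2, zero_add, Multiset.prod_cons]

theorem reflect_prod_X_sub_C (M : Multiset S) :
    reflect M.card (M.map fun v => X - C v).prod = (M.map fun v => (1 : S[X]) - C v * X).prod := by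
  induction M using Multiset.induction with
  | empty => simp
  | cons v M ih =>
    rw [Multiset.map_cons, Multiset.map_cons, Multiset.prod_cons, Multiset.prod_cons, Multiset.card_cons,
      add_comm M.card 1, reflect_mul (X - C v) _ (natDegree_X_sub_C_le v) ?_, ih]
    · congr 1
      rw [reflect_sub, reflect_C, pow_one, show (X : S[X]) = X ^ 1 from (pow_one X).symm, reflect_monomial]
      simp [revAt_le]
    · refine (natDegree_multiset_prod_le _).trans ?_
      rw [Multiset.map_map]
      refine (Multiset.sum_le_card_nsmul _ 1 fun x hx => ?_).trans (by simp)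
      obtain ⟨w, _, rfl⟩ := Multiset.mem_map.1 hx
      exact natDegree_X_sub_C_le w

/-- Multisets with the same monic polynomial have the same series. -/
theorem multS_congr {M N : Multiset S} (hcard : M.card = N.card)
    (h : (M.map fun v => X - C v).prod = (N.map fun v => X - C v).prod) : multS M = multS N := by
  have h1 := reflect_prod_X_sub_C M
  rw [h, hcard, reflect_prod_X_sub_C N] at h1
  have key : ∀ M : Multiset S, ((((M.map fun v => (1 : S[X]) - C v * X).prod).comp (-X) : S[X]) : PowerSeries S) =
      multS M := fun M => by
    induction M using Multiset.induction with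
    | empty => simp
    | cons v M ih =>
      rw [Multiset.map_cons, Multiset.prod_cons, mul_comp, Polynomial.coe_mul, ih, multS_cons]
      simp [lineS]
  rw [← key M, ← key N, h1]

/-- A monic polynomial splits in an extension ring. -/
theorem exists_splitting : ∀ (d : ℕ) {R : Type u} [CommRing R] (q : R[X]), q.Monic → q.natDegree = d →
    ∃ (Ω : Type u) (_ : CommRing Ω) (φ : R →+* Ω) (z : Multiset Ω), Function.Injective φ ∧ z.card = d ∧
      q.map φ = (z.map fun v => X - C v).prod := by
  intro d
  induction d with
  | zero =>
    intro R _ q hq hd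
    refine ⟨R, inferInstance, RingHom.id R, 0, Function.injective_id, rfl, ?_⟩
    simp [Polynomial.eq_one_of_monic_natDegree_zero hq hd]
  | succ d ih =>
    intro R _ q hq hd
    rcases subsingleton_or_nontrivial R with hR | hR
    · rw [Polynomial.natDegree_of_subsingleton] at hd; omega
    have hinj : Function.Injective (AdjoinRoot.of q) := (injective_iff_map_eq_zero _).2 fun a ha => by
      rw [← AdjoinRoot.mk_C, AdjoinRoot.mk_eq_zero] at ha
      by_contra hne
      refine hq.not_dvd_of_natDegree_lt (C_ne_zero.2 hne) ?_ ha
      rw [natDegree_C]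
      omega
    haveI : Nontrivial (AdjoinRoot q) := hinj.nontrivial
    obtain ⟨q', hq'⟩ := dvd_iff_isRoot.2
      (show (q.map (AdjoinRoot.of q)).IsRoot (AdjoinRoot.root q) by
        rw [IsRoot, eval_map, AdjoinRoot.eval₂_root])
    have hmon : q'.Monic := (monic_X_sub_C _).of_mul_monic_left (hq' ▸ hq.map _)
    have hd' : q'.natDegree = d := by
      have := congrArg natDegree hq'
      rw [hq.natDegree_map, hd, (monic_X_sub_C _).natDegree_mul hmon, natDegree_X_sub_C] at this
      omega
    obtain ⟨Ω, _, φ, z, hφ, hz, hzq⟩ := ih q' hmon hd'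
    refine ⟨Ω, inferInstance, φ.comp (AdjoinRoot.of q), φ (AdjoinRoot.root q) ::ₘ z, hφ.comp hinj,
      by rw [Multiset.card_cons, hz], ?_⟩
    rw [← Polynomial.map_map, hq', Polynomial.map_mul, hzq, Multiset.map_cons, Multiset.prod_cons]
    simp

end GrothLib.ElemExt16
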